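import Cfsg.Agent.Lib.KnownSimple.Sp6Lab.Data

set_option autoImplicit false
set_option maxRecDepth 100000

namespace Cfsg.Agent.Lib.KnownSimple.Sp6Lab

open Cfsg.Agent.Lib.KnownSimple.Lab Cfsg.Agent.Lib.KnownSimple.Sp6Lab Dat

theorem hL0c0_c0 : allI (fun i => lowOK D.T lN0 2 0 wr0 i) 0 240 = true := by decide +kernel
theorem hL0c0_u0 : ∀ i, i < 240 → (fun i => lowOK D.T lN0 2 0 wr0 i) i = true :=
  allI_join allI_start hL0c0_c0 rfl
theorem hL0c0 : ∀ i, i < 240 → (fun i => lowOK D.T lN0 2 0 wr0 i) i = true := hL0c0_u0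
theorem hL1c0_c0 : allI (fun i => lowOK D.T lN0 2 0 wr1 i) 0 240 = true := by decide +kernel
theorem hL1c0_u0 : ∀ i, i < 240 → (fun i => lowOK D.T lN0 2 0 wr1 i) i = true :=
  allI_join allI_start hL1c0_c0 rfl
theorem hL1c0 : ∀ i, i < 240 → (fun i => lowOK D.T lN0 2 0 wr1 i) i = true := hL1c0_u0
theorem hL2c0_c0 : allI (fun i => lowOK D.T lN0 2 0 wr2 i) 0 240 = true := by decide +kernel
theorem hL2c0_u0 : ∀ i, i < 240 → (fun i => lowOK D.T lN0 2 0 wr2 i) i = true :=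
  allI_join allI_start hL2c0_c0 rfl
theorem hL2c0 : ∀ i, i < 240 → (fun i => lowOK D.T lN0 2 0 wr2 i) i = true := hL2c0_u0
theorem hL3c0_c0 : allI (fun i => lowOK D.T lN0 2 0 wr3 i) 0 240 = true := by decide +kernel
theorem hL3c0_u0 : ∀ i, i < 240 → (fun i => lowOK D.T lN0 2 0 wr3 i) i = true :=
  allI_join allI_start hL3c0_c0 rfl
theorem hL3c0 : ∀ i, i < 240 → (fun i => lowOK D.T lN0 2 0 wr3 i) i = true := hL3c0_u0
theorem hL4c0_c0 : allI (fun i => lowOK D.T lN0 2 0 wr4 i) 0 240 = true := by decide +kernel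
theorem hL4c0_u0 : ∀ i, i < 240 → (fun i => lowOK D.T lN0 2 0 wr4 i) i = true :=
  allI_join allI_start hL4c0_c0 rfl
theorem hL4c0 : ∀ i, i < 240 → (fun i => lowOK D.T lN0 2 0 wr4 i) i = true := hL4c0_u0
theorem hL5c0_c0 : allI (fun i => lowOK D.T lN0 2 1 wr5 i) 0 240 = true := by decide +kernel
theorem hL5c0_u0 : ∀ i, i < 240 → (fun i => lowOK D.T lN0 2 1 wr5 i) i = true :=
  allI_join allI_start hL5c0_c0 rfl
theorem hL5c0 : ∀ i, i < 240 → (fun i => lowOK D.T lN0 2 1 wr5 i) i = true := hL5c0_u0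
theorem hL6c0_c0 : allI (fun i => lowOK D.T lN0 2 1 wr6 i) 0 240 = true := by decide +kernel
theorem hL6c0_u0 : ∀ i, i < 240 → (fun i => lowOK D.T lN0 2 1 wr6 i) i = true :=
  allI_join allI_start hL6c0_c0 rfl
theorem hL6c0 : ∀ i, i < 240 → (fun i => lowOK D.T lN0 2 1 wr6 i) i = true := hL6c0_u0
theorem hL7c0_c0 : allI (fun i => lowOK D.T lN0 2 1 wr7 i) 0 240 = true := by decide +kernel
theorem hL7c0_u0 : ∀ i, i < 240 → (fun i => lowOK D.T lN0 2 1 wr7 i) i = true :=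
  allI_join allI_start hL7c0_c0 rfl
theorem hL7c0 : ∀ i, i < 240 → (fun i => lowOK D.T lN0 2 1 wr7 i) i = true := hL7c0_u0
theorem hL8c0_c0 : allI (fun i => lowOK D.T lN0 2 1 wr8 i) 0 240 = true := by decide +kernel
theorem hL8c0_u0 : ∀ i, i < 240 → (fun i => lowOK D.T lN0 2 1 wr8 i) i = true :=
  allI_join allI_start hL8c0_c0 rfl
theorem hL8c0 : ∀ i, i < 240 → (fun i => lowOK D.T lN0 2 1 wr8 i) i = true := hL8c0_u0
theorem hL9c0_c0 : allI (fun i => lowOK D.T lN0 2 0 wr9 i) 0 240 = true := by decide +kernel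
theorem hL9c0_u0 : ∀ i, i < 240 → (fun i => lowOK D.T lN0 2 0 wr9 i) i = true :=
  allI_join allI_start hL9c0_c0 rfl
theorem hL9c0 : ∀ i, i < 240 → (fun i => lowOK D.T lN0 2 0 wr9 i) i = true := hL9c0_u0
theorem hL10c0_c0 : allI (fun i => lowOK D.T lN0 2 0 wr10 i) 0 240 = true := by decide +kernel
theorem hL10c0_u0 : ∀ i, i < 240 → (fun i => lowOK D.T lN0 2 0 wr10 i) i = true :=
  allI_join allI_start hL10c0_c0 rfl
theorem hL10c0 : ∀ i, i < 240 → (fun i => lowOK D.T lN0 2 0 wr10 i) i = true := hL10c0_u0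
theorem hLP0c0_c0 : allI (fun i => lowOK D.T lN0 2 1 pw0 i) 0 240 = true := by decide +kernel
theorem hLP0c0_u0 : ∀ i, i < 240 → (fun i => lowOK D.T lN0 2 1 pw0 i) i = true :=
  allI_join allI_start hLP0c0_c0 rfl
theorem hLP0c0 : ∀ i, i < 240 → (fun i => lowOK D.T lN0 2 1 pw0 i) i = true := hLP0c0_u0
theorem hLP2c0_c0 : allI (fun i => lowOK D.T lN0 2 1 pw2 i) 0 240 = true := by decide +kernel
theorem hLP2c0_u0 : ∀ i, i < 240 → (fun i => lowOK D.T lN0 2 1 pw2 i) i = true :=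
  allI_join allI_start hLP2c0_c0 rfl
theorem hLP2c0 : ∀ i, i < 240 → (fun i => lowOK D.T lN0 2 1 pw2 i) i = true := hLP2c0_u0
theorem hLP3c0_c0 : allI (fun i => lowOK D.T lN0 2 0 pw3 i) 0 240 = true := by decide +kernel
theorem hLP3c0_u0 : ∀ i, i < 240 → (fun i => lowOK D.T lN0 2 0 pw3 i) i = true :=
  allI_join allI_start hLP3c0_c0 rfl
theorem hLP3c0 : ∀ i, i < 240 → (fun i => lowOK D.T lN0 2 0 pw3 i) i = true := hLP3c0_u0
theorem hLP4c0_c0 : allI (fun i => lowOK D.T lN0 2 1 pw4 i) 0 240 = true := by decide +kernel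
theorem hLP4c0_u0 : ∀ i, i < 240 → (fun i => lowOK D.T lN0 2 1 pw4 i) i = true :=
  allI_join allI_start hLP4c0_c0 rfl
theorem hLP4c0 : ∀ i, i < 240 → (fun i => lowOK D.T lN0 2 1 pw4 i) i = true := hLP4c0_u0
theorem hLP5c0_c0 : allI (fun i => lowOK D.T lN0 2 0 pw5 i) 0 240 = true := by decide +kernel
theorem hLP5c0_u0 : ∀ i, i < 240 → (fun i => lowOK D.T lN0 2 0 pw5 i) i = true :=
  allI_join allI_start hLP5c0_c0 rfl
theorem hLP5c0 : ∀ i, i < 240 → (fun i => lowOK D.T lN0 2 0 pw5 i) i = true := hLP5c0_u0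
theorem hLP6c0_c0 : allI (fun i => lowOK D.T lN0 2 1 pw6 i) 0 240 = true := by decide +kernel
theorem hLP6c0_u0 : ∀ i, i < 240 → (fun i => lowOK D.T lN0 2 1 pw6 i) i = true :=
  allI_join allI_start hLP6c0_c0 rfl
theorem hLP6c0 : ∀ i, i < 240 → (fun i => lowOK D.T lN0 2 1 pw6 i) i = true := hLP6c0_u0
theorem hLP7c0_c0 : allI (fun i => lowOK D.T lN0 2 1 pw7 i) 0 240 = true := by decide +kernel
theorem hLP7c0_u0 : ∀ i, i < 240 → (fun i => lowOK D.T lN0 2 1 pw7 i) i = true :=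
  allI_join allI_start hLP7c0_c0 rfl
theorem hLP7c0 : ∀ i, i < 240 → (fun i => lowOK D.T lN0 2 1 pw7 i) i = true := hLP7c0_u0
theorem hLP8c0_c0 : allI (fun i => lowOK D.T lN0 2 1 pw8 i) 0 240 = true := by decide +kernel
theorem hLP8c0_u0 : ∀ i, i < 240 → (fun i => lowOK D.T lN0 2 1 pw8 i) i = true :=
  allI_join allI_start hLP8c0_c0 rfl
theorem hLP8c0 : ∀ i, i < 240 → (fun i => lowOK D.T lN0 2 1 pw8 i) i = true := hLP8c0_u0
theorem hLP9c0_c0 : allI (fun i => lowOK D.T lN0 2 1 pw9 i) 0 240 = true := by decide +kernel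
theorem hLP9c0_u0 : ∀ i, i < 240 → (fun i => lowOK D.T lN0 2 1 pw9 i) i = true :=
  allI_join allI_start hLP9c0_c0 rfl
theorem hLP9c0 : ∀ i, i < 240 → (fun i => lowOK D.T lN0 2 1 pw9 i) i = true := hLP9c0_u0
theorem hLP10c0_c0 : allI (fun i => lowOK D.T lN0 2 1 pw10 i) 0 240 = true := by decide +kernel
theorem hLP10c0_u0 : ∀ i, i < 240 → (fun i => lowOK D.T lN0 2 1 pw10 i) i = true :=
  allI_join allI_start hLP10c0_c0 rfl
theorem hLP10c0 : ∀ i, i < 240 → (fun i => lowOK D.T lN0 2 1 pw10 i) i = true := hLP10c0_u0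
theorem hLP11c0_c0 : allI (fun i => lowOK D.T lN0 2 1 pw11 i) 0 240 = true := by decide +kernel
theorem hLP11c0_u0 : ∀ i, i < 240 → (fun i => lowOK D.T lN0 2 1 pw11 i) i = true :=
  allI_join allI_start hLP11c0_c0 rfl
theorem hLP11c0 : ∀ i, i < 240 → (fun i => lowOK D.T lN0 2 1 pw11 i) i = true := hLP11c0_u0
theorem hLP12c0_c0 : allI (fun i => lowOK D.T lN0 2 1 pw12 i) 0 240 = true := by decide +kernel
theorem hLP12c0_u0 : ∀ i, i < 240 → (fun i => lowOK D.T lN0 2 1 pw12 i) i = true :=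
  allI_join allI_start hLP12c0_c0 rfl
theorem hLP12c0 : ∀ i, i < 240 → (fun i => lowOK D.T lN0 2 1 pw12 i) i = true := hLP12c0_u0
theorem hES0c0_c0 : allI (fun i => lowOK D.T lN0 2 0 wES0 i) 0 240 = true := by decide +kernel
theorem hES0c0_u0 : ∀ i, i < 240 → (fun i => lowOK D.T lN0 2 0 wES0 i) i = true :=
  allI_join allI_start hES0c0_c0 rfl
theorem hES0c0 : ∀ i, i < 240 → (fun i => lowOK D.T lN0 2 0 wES0 i) i = true := hES0c0_u0
theorem hES1c0_c0 : allI (fun i => lowOK D.T lN0 2 0 wES1 i) 0 240 = true := by decide +kernel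
theorem hES1c0_u0 : ∀ i, i < 240 → (fun i => lowOK D.T lN0 2 0 wES1 i) i = true :=
  allI_join allI_start hES1c0_c0 rfl
theorem hES1c0 : ∀ i, i < 240 → (fun i => lowOK D.T lN0 2 0 wES1 i) i = true := hES1c0_u0
theorem hES2c0_c0 : allI (fun i => lowOK D.T lN0 2 0 wES2 i) 0 240 = true := by decide +kernel
theorem hES2c0_u0 : ∀ i, i < 240 → (fun i => lowOK D.T lN0 2 0 wES2 i) i = true :=
  allI_join allI_start hES2c0_c0 rfl
theorem hES2c0 : ∀ i, i < 240 → (fun i => lowOK D.T lN0 2 0 wES2 i) i = true := hES2c0_u0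
theorem hES3c0_c0 : allI (fun i => lowOK D.T lN0 2 0 wES3 i) 0 240 = true := by decide +kernel
theorem hES3c0_u0 : ∀ i, i < 240 → (fun i => lowOK D.T lN0 2 0 wES3 i) i = true :=
  allI_join allI_start hES3c0_c0 rfl
theorem hES3c0 : ∀ i, i < 240 → (fun i => lowOK D.T lN0 2 0 wES3 i) i = true := hES3c0_u0
theorem hES4c0_c0 : allI (fun i => lowOK D.T lN0 2 0 wES4 i) 0 240 = true := by decide +kernel
theorem hES4c0_u0 : ∀ i, i < 240 → (fun i => lowOK D.T lN0 2 0 wES4 i) i = true :=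
  allI_join allI_start hES4c0_c0 rfl
theorem hES4c0 : ∀ i, i < 240 → (fun i => lowOK D.T lN0 2 0 wES4 i) i = true := hES4c0_u0
theorem hES5c0_c0 : allI (fun i => lowOK D.T lN0 2 0 wES5 i) 0 240 = true := by decide +kernel
theorem hES5c0_u0 : ∀ i, i < 240 → (fun i => lowOK D.T lN0 2 0 wES5 i) i = true :=
  allI_join allI_start hES5c0_c0 rfl
theorem hES5c0 : ∀ i, i < 240 → (fun i => lowOK D.T lN0 2 0 wES5 i) i = true := hES5c0_u0
theorem hES6c0_c0 : allI (fun i => lowOK D.T lN0 2 0 wES6 i) 0 240 = true := by decide +kernel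
theorem hES6c0_u0 : ∀ i, i < 240 → (fun i => lowOK D.T lN0 2 0 wES6 i) i = true :=
  allI_join allI_start hES6c0_c0 rfl
theorem hES6c0 : ∀ i, i < 240 → (fun i => lowOK D.T lN0 2 0 wES6 i) i = true := hES6c0_u0
theorem hES7c0_c0 : allI (fun i => lowOK D.T lN0 2 1 wES7 i) 0 240 = true := by decide +kernel
theorem hES7c0_u0 : ∀ i, i < 240 → (fun i => lowOK D.T lN0 2 1 wES7 i) i = true :=
  allI_join allI_start hES7c0_c0 rfl
theorem hES7c0 : ∀ i, i < 240 → (fun i => lowOK D.T lN0 2 1 wES7 i) i = true := hES7c0_u0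
theorem hES8c0_c0 : allI (fun i => lowOK D.T lN0 2 0 wES8 i) 0 240 = true := by decide +kernel
theorem hES8c0_u0 : ∀ i, i < 240 → (fun i => lowOK D.T lN0 2 0 wES8 i) i = true :=
  allI_join allI_start hES8c0_c0 rfl
theorem hES8c0 : ∀ i, i < 240 → (fun i => lowOK D.T lN0 2 0 wES8 i) i = true := hES8c0_u0
theorem hES9c0_c0 : allI (fun i => lowOK D.T lN0 2 1 wES9 i) 0 240 = true := by decide +kernel
theorem hES9c0_u0 : ∀ i, i < 240 → (fun i => lowOK D.T lN0 2 1 wES9 i) i = true :=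
  allI_join allI_start hES9c0_c0 rfl
theorem hES9c0 : ∀ i, i < 240 → (fun i => lowOK D.T lN0 2 1 wES9 i) i = true := hES9c0_u0
theorem hES10c0_c0 : allI (fun i => lowOK D.T lN0 2 0 wES10 i) 0 240 = true := by decide +kernel
theorem hES10c0_u0 : ∀ i, i < 240 → (fun i => lowOK D.T lN0 2 0 wES10 i) i = true :=
  allI_join allI_start hES10c0_c0 rfl
theorem hES10c0 : ∀ i, i < 240 → (fun i => lowOK D.T lN0 2 0 wES10 i) i = true := hES10c0_u0
theorem hES11c0_c0 : allI (fun i => lowOK D.T lN0 2 1 wES11 i) 0 240 = true := by decide +kernel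
theorem hES11c0_u0 : ∀ i, i < 240 → (fun i => lowOK D.T lN0 2 1 wES11 i) i = true :=
  allI_join allI_start hES11c0_c0 rfl
theorem hES11c0 : ∀ i, i < 240 → (fun i => lowOK D.T lN0 2 1 wES11 i) i = true := hES11c0_u0
theorem hES12c0_c0 : allI (fun i => lowOK D.T lN0 2 1 wES12 i) 0 240 = true := by decide +kernel
theorem hES12c0_u0 : ∀ i, i < 240 → (fun i => lowOK D.T lN0 2 1 wES12 i) i = true :=
  allI_join allI_start hES12c0_c0 rfl
theorem hES12c0 : ∀ i, i < 240 → (fun i => lowOK D.T lN0 2 1 wES12 i) i = true := hES12c0_u0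
theorem hES13c0_c0 : allI (fun i => lowOK D.T lN0 2 0 wES13 i) 0 240 = true := by decide +kernel
theorem hES13c0_u0 : ∀ i, i < 240 → (fun i => lowOK D.T lN0 2 0 wES13 i) i = true :=
  allI_join allI_start hES13c0_c0 rfl
theorem hES13c0 : ∀ i, i < 240 → (fun i => lowOK D.T lN0 2 0 wES13 i) i = true := hES13c0_u0
theorem hES14c0_c0 : allI (fun i => lowOK D.T lN0 2 1 wES14 i) 0 240 = true := by decide +kernel
theorem hES14c0_u0 : ∀ i, i < 240 → (fun i => lowOK D.T lN0 2 1 wES14 i) i = true :=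
  allI_join allI_start hES14c0_c0 rfl
theorem hES14c0 : ∀ i, i < 240 → (fun i => lowOK D.T lN0 2 1 wES14 i) i = true := hES14c0_u0
theorem hES15c0_c0 : allI (fun i => lowOK D.T lN0 2 0 wES15 i) 0 240 = true := by decide +kernel
theorem hES15c0_u0 : ∀ i, i < 240 → (fun i => lowOK D.T lN0 2 0 wES15 i) i = true :=
  allI_join allI_start hES15c0_c0 rfl
theorem hES15c0 : ∀ i, i < 240 → (fun i => lowOK D.T lN0 2 0 wES15 i) i = true := hES15c0_u0
theorem hES16c0_c0 : allI (fun i => lowOK D.T lN0 2 1 wES16 i) 0 240 = true := by decide +kernel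
theorem hES16c0_u0 : ∀ i, i < 240 → (fun i => lowOK D.T lN0 2 1 wES16 i) i = true :=
  allI_join allI_start hES16c0_c0 rfl
theorem hES16c0 : ∀ i, i < 240 → (fun i => lowOK D.T lN0 2 1 wES16 i) i = true := hES16c0_u0
theorem hES17c0_c0 : allI (fun i => lowOK D.T lN0 2 1 wES17 i) 0 240 = true := by decide +kernel
theorem hES17c0_u0 : ∀ i, i < 240 → (fun i => lowOK D.T lN0 2 1 wES17 i) i = true :=
  allI_join allI_start hES17c0_c0 rfl
theorem hES17c0 : ∀ i, i < 240 → (fun i => lowOK D.T lN0 2 1 wES17 i) i = true := hES17c0_u0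
theorem hES18c0_c0 : allI (fun i => lowOK D.T lN0 2 0 wES18 i) 0 240 = true := by decide +kernel
theorem hES18c0_u0 : ∀ i, i < 240 → (fun i => lowOK D.T lN0 2 0 wES18 i) i = true :=
  allI_join allI_start hES18c0_c0 rfl
theorem hES18c0 : ∀ i, i < 240 → (fun i => lowOK D.T lN0 2 0 wES18 i) i = true := hES18c0_u0
theorem hES19c0_c0 : allI (fun i => lowOK D.T lN0 2 0 wES19 i) 0 240 = true := by decide +kernel
theorem hES19c0_u0 : ∀ i, i < 240 → (fun i => lowOK D.T lN0 2 0 wES19 i) i = true :=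
  allI_join allI_start hES19c0_c0 rfl
theorem hES19c0 : ∀ i, i < 240 → (fun i => lowOK D.T lN0 2 0 wES19 i) i = true := hES19c0_u0
theorem hES20c0_c0 : allI (fun i => lowOK D.T lN0 2 0 wES20 i) 0 240 = true := by decide +kernel
theorem hES20c0_u0 : ∀ i, i < 240 → (fun i => lowOK D.T lN0 2 0 wES20 i) i = true :=
  allI_join allI_start hES20c0_c0 rfl
theorem hES20c0 : ∀ i, i < 240 → (fun i => lowOK D.T lN0 2 0 wES20 i) i = true := hES20c0_u0
theorem hES21c0_c0 : allI (fun i => lowOK D.T lN0 2 0 wES21 i) 0 240 = true := by decide +kernel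
theorem hES21c0_u0 : ∀ i, i < 240 → (fun i => lowOK D.T lN0 2 0 wES21 i) i = true :=
  allI_join allI_start hES21c0_c0 rfl
theorem hES21c0 : ∀ i, i < 240 → (fun i => lowOK D.T lN0 2 0 wES21 i) i = true := hES21c0_u0
theorem hES22c0_c0 : allI (fun i => lowOK D.T lN0 2 1 wES22 i) 0 240 = true := by decide +kernel
theorem hES22c0_u0 : ∀ i, i < 240 → (fun i => lowOK D.T lN0 2 1 wES22 i) i = true :=
  allI_join allI_start hES22c0_c0 rfl
theorem hES22c0 : ∀ i, i < 240 → (fun i => lowOK D.T lN0 2 1 wES22 i) i = true := hES22c0_u0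
theorem hES23c0_c0 : allI (fun i => lowOK D.T lN0 2 0 wES23 i) 0 240 = true := by decide +kernel
theorem hES23c0_u0 : ∀ i, i < 240 → (fun i => lowOK D.T lN0 2 0 wES23 i) i = true :=
  allI_join allI_start hES23c0_c0 rfl
theorem hES23c0 : ∀ i, i < 240 → (fun i => lowOK D.T lN0 2 0 wES23 i) i = true := hES23c0_u0
theorem hES24c0_c0 : allI (fun i => lowOK D.T lN0 2 0 wES24 i) 0 240 = true := by decide +kernel
theorem hES24c0_u0 : ∀ i, i < 240 → (fun i => lowOK D.T lN0 2 0 wES24 i) i = true :=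
  allI_join allI_start hES24c0_c0 rfl
theorem hES24c0 : ∀ i, i < 240 → (fun i => lowOK D.T lN0 2 0 wES24 i) i = true := hES24c0_u0
theorem hES25c0_c0 : allI (fun i => lowOK D.T lN0 2 1 wES25 i) 0 240 = true := by decide +kernel
theorem hES25c0_u0 : ∀ i, i < 240 → (fun i => lowOK D.T lN0 2 1 wES25 i) i = true :=
  allI_join allI_start hES25c0_c0 rfl
theorem hES25c0 : ∀ i, i < 240 → (fun i => lowOK D.T lN0 2 1 wES25 i) i = true := hES25c0_u0
theorem hES26c0_c0 : allI (fun i => lowOK D.T lN0 2 0 wES26 i) 0 240 = true := by decide +kernel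
theorem hES26c0_u0 : ∀ i, i < 240 → (fun i => lowOK D.T lN0 2 0 wES26 i) i = true :=
  allI_join allI_start hES26c0_c0 rfl
theorem hES26c0 : ∀ i, i < 240 → (fun i => lowOK D.T lN0 2 0 wES26 i) i = true := hES26c0_u0
theorem hES27c0_c0 : allI (fun i => lowOK D.T lN0 2 0 wES27 i) 0 240 = true := by decide +kernel
theorem hES27c0_u0 : ∀ i, i < 240 → (fun i => lowOK D.T lN0 2 0 wES27 i) i = true :=
  allI_join allI_start hES27c0_c0 rfl
theorem hES27c0 : ∀ i, i < 240 → (fun i => lowOK D.T lN0 2 0 wES27 i) i = true := hES27c0_u0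
theorem hES28c0_c0 : allI (fun i => lowOK D.T lN0 2 0 wES28 i) 0 240 = true := by decide +kernel
theorem hES28c0_u0 : ∀ i, i < 240 → (fun i => lowOK D.T lN0 2 0 wES28 i) i = true :=
  allI_join allI_start hES28c0_c0 rfl
theorem hES28c0 : ∀ i, i < 240 → (fun i => lowOK D.T lN0 2 0 wES28 i) i = true := hES28c0_u0
theorem hES29c0_c0 : allI (fun i => lowOK D.T lN0 2 1 wES29 i) 0 240 = true := by decide +kernel
theorem hES29c0_u0 : ∀ i, i < 240 → (fun i => lowOK D.T lN0 2 1 wES29 i) i = true :=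
  allI_join allI_start hES29c0_c0 rfl
theorem hES29c0 : ∀ i, i < 240 → (fun i => lowOK D.T lN0 2 1 wES29 i) i = true := hES29c0_u0
theorem hES30c0_c0 : allI (fun i => lowOK D.T lN0 2 0 wES30 i) 0 240 = true := by decide +kernel
theorem hES30c0_u0 : ∀ i, i < 240 → (fun i => lowOK D.T lN0 2 0 wES30 i) i = true :=
  allI_join allI_start hES30c0_c0 rfl
theorem hES30c0 : ∀ i, i < 240 → (fun i => lowOK D.T lN0 2 0 wES30 i) i = true := hES30c0_u0
theorem hES31c0_c0 : allI (fun i => lowOK D.T lN0 2 0 wES31 i) 0 240 = true := by decide +kernel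
theorem hES31c0_u0 : ∀ i, i < 240 → (fun i => lowOK D.T lN0 2 0 wES31 i) i = true :=
  allI_join allI_start hES31c0_c0 rfl
theorem hES31c0 : ∀ i, i < 240 → (fun i => lowOK D.T lN0 2 0 wES31 i) i = true := hES31c0_u0

end Cfsg.Agent.Lib.KnownSimple.Sp6Lab
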