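import Cfsg.Agent.Lib.KnownSimple.LabSp
import Cfsg.Agent.Lib.KnownSimple.LabVec

/-! Letters for the symplectic group in six dimensions. -/

set_option autoImplicit false
set_option maxRecDepth 100000

namespace Cfsg.Agent.Lib.KnownSimple.Sp6Lab

open Cfsg.Agent.Lib.KnownSimple.Lab Cfsg.Agent.Lib.KnownSimple.LabMat Cfsg.Agent.Lib.KnownSimple.LabField Cfsg.Agent.Lib.KnownSimple.LabVec

/-- The letters. -/
def Ls : List (List ℕ) := [[0, 1, 1, 1, 1, 1, 0, 0, 1, 1, 1, 0, 1, 1, 0, 1, 0, 0, 1, 0, 1, 1, 0, 1, 0, 0, 0, 1, 1, 1, 1, 0, 1, 1, 1, 1], [0, 1, 0, 1, 1, 0, 0, 1, 0, 0, 1, 0, 0, 0, 1, 0, 0, 0, 1, 0, 1, 1, 0, 0, 1, 1, 0, 1, 0, 0, 0, 1, 1, 1, 1, 1], [1, 1, 1, 1, 1, 1, 0, 1, 1, 1, 1, 0, 1, 1, 1, 1, 0, 0, 1, 0, 1, 0, 0, 1, 0, 0, 0, 1, 0, 1, 1, 0, 1, 1, 1, 0], [1, 1, 1, 1, 0, 0, 0, 0, 1, 1, 1, 0, 0, 0, 1, 0, 0, 0, 1, 1, 0,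 0, 0, 0, 0, 1, 1, 1, 1, 0, 1, 0, 1, 0, 0, 1]]

/-- The points. -/
def ptsL : List (List ℕ) := [[0, 0, 0, 0, 0, 0], [1, 0, 0, 0, 0, 0], [0, 1, 0, 0, 0, 0], [1, 1, 0, 0, 0, 0], [0, 0, 1, 0, 0, 0], [1, 0, 1, 0, 0, 0], [0, 1, 1, 0, 0, 0], [1, 1, 1, 0, 0, 0], [0, 0, 0, 1, 0, 0], [1, 0, 0, 1, 0, 0], [0, 1, 0, 1, 0, 0], [1, 1, 0, 1, 0, 0], [0, 0, 1, 1, 0, 0], [1, 0, 1, 1, 0, 0], [0, 1, 1, 1, 0, 0], [1, 1, 1, 1, 0, 0], [0, 0, 0, 0, 1, 0], [1, 0, 0, 0, 1, 0], [0, 1, 0, 0, 1, 0], [1, 1, 0, 0, 1, 0], [0, 0, 1, 0, 1, 0], [1, 0, 1, 0, 1, 0], [0, 1, 1, 0, 1, 0], [1, 1, 1, 0, 1, 0], [0, 0, 0, 1, 1, 0], [1, 0, 0, 1, 1, 0], [0, 1, 0, 1, 1, 0], [1, 1, 0, 1, 1, 0], [0, 0, 1, 1, 1, 0], [1, 0, 1, 1, 1, 0], [0, 1, 1, 1, 1, 0], [1, 1, 1, 1, 1, 0], [0, 0, 0, 0, 0, 1], [1, 0, 0, 0, 0, 1], [0, 1, 0, 0, 0, 1], [1, 1, 0, 0, 0, 1], [0, 0, 1, 0, 0,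 1], [1, 0, 1, 0, 0, 1], [0, 1, 1, 0, 0, 1], [1, 1, 1, 0, 0, 1], [0, 0, 0, 1, 0, 1], [1, 0, 0, 1, 0, 1], [0, 1, 0, 1, 0, 1], [1, 1, 0, 1, 0, 1], [0, 0, 1, 1, 0, 1], [1, 0, 1, 1, 0, 1], [0, 1, 1, 1, 0, 1], [1, 1, 1, 1, 0, 1], [0, 0, 0, 0, 1, 1], [1, 0, 0, 0, 1, 1], [0, 1, 0, 0, 1, 1], [1, 1, 0, 0, 1, 1], [0, 0, 1, 0, 1, 1], [1, 0, 1, 0, 1, 1], [0, 1, 1, 0, 1, 1], [1, 1, 1, 0, 1, 1], [0, 0, 0, 1, 1, 1], [1, 0, 0, 1, 1, 1], [0, 1, 0, 1, 1, 1], [1, 1, 0, 1, 1, 1], [0, 0, 1, 1, 1, 1], [1, 0, 1, 1, 1, 1], [0, 1, 1, 1, 1, 1], [1, 1, 1, 1, 1, 1]]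

/-- The action on the points. -/
def vT : List ℕ := [1440532292567838723213605725725209422513998080769416008276866091183112169428095313986562756815620401159346333806512580919883836074571883593029636808220300195859140594951047308804419729202408297377193839619521298339446801023307467490945199737251548355387075579028671406507893491960548742090150993225978320896158032587789678913688112969382881449355852608077385020383181900359966152803592235358983037105183220312834197625792954447762828961972148396362513764319517440]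

/-- The action on the points. -/
def V (a i : ℕ) : ℕ := getP vT 6 10 (Nat.add (Nat.mul a 64) i)

/-- The coordinate points. -/
def bs : List ℕ := [1, 2, 4, 8, 16, 32]

/-- A word is trivial. -/
def chk (w : List ℕ) : Bool := bs.all (fun i => Nat.beq (walk V w i) i)

theorem hV : ∀ a < 4, ∀ i < 64, V a i < 64 ∧
    mulVC add2 mul2 6 (Ls.getD a []) (ptsL.getD i []) = ptsL.getD (V a i) [] := by decide +kernel

theorem hbs : ∀ j < 6, bs.getD j 0 < 64 ∧ ptsL.getD (bs.getD j 0) [] = unitC 6 j := by decide +kernel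

theorem chk_eq {F : Type*} [Field F] (R : Rep F 2 add2 mul2) (w : List ℕ) (hw : ∀ a ∈ w, a < 4)
    (h : chk w = true) : toM R.φ 6 (wordC add2 mul2 6 Ls w) = 1 := by
  refine toM_word_eq_one R.hadd R.hmul R.h0 R.h1 hV bs hbs w hw ?_
  intro j hj
  have h1 : bs.getD j 0 ∈ bs := by
    interval_cases j <;> simp [bs]
  exact Nat.eq_of_beq_eq_true (List.all_eq_true.mp h _ h1)

end Cfsg.Agent.Lib.KnownSimple.Sp6Lab
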